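import Cfsg.Agent.Solvable.Frattini
import Mathlib.Data.Matrix.Mul
import Mathlib.Data.ZMod.Basic
import Mathlib.Algebra.Field.ZMod
import Mathlib.Algebra.Order.BigOperators.Group.Finset

/-!
# The number of generators of a group of unitriangular matrices

`exists_generators_of_unitriangular`: a `p`-group with a faithful unitriangular representation of
degree `k` over `ZMod p` is generated by at most `k²/4` elements: the leading positions of a
minimal system of generators form a triangle free graph on the `k` indices.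
-/

set_option autoImplicit false
set_option linter.unusedSectionVars false

namespace CfsgLib.UnipotentRank

open Finset

open scoped commutatorElement

variable {k : ℕ}

/-- The weight of a position. -/
def wt (i j : Fin k) : ℕ := 2 ^ (j : ℕ) - 2 ^ (i : ℕ)

theorem wt_add {i j l : Fin k} (h1 : i < j) (h2 : j < l) : wt i j + wt j l = wt i l := by
  have a := Nat.pow_lt_pow_right (show 1 < 2 by norm_num) (show (i : ℕ) < j from h1)
  have b := Nat.pow_lt_pow_right (show 1 < 2 by norm_num) (show (j : ℕ) < l from h2)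
  simp only [wt]
  omega

theorem wt_pos {i j : Fin k} (h : i < j) : 0 < wt i j :=
  Nat.sub_pos_of_lt (Nat.pow_lt_pow_right (by norm_num) h)

theorem wt_lt_pow {i j : Fin k} : wt i j < 2 ^ k :=
  lt_of_le_of_lt (Nat.sub_le _ _) (Nat.pow_lt_pow_right (by norm_num) j.2)

theorem wt_inj {i j i' j' : Fin k} (h : i < j) (h' : i' < j') (e : wt i j = wt i' j') :
    i = i' ∧ j = j' := by
  have key : ∀ {i j i' j' : Fin k}, i < j → i' < j' → j < j' → wt i j < wt i' j' := by
    intro i j i' j' h h' hj
    have a := Nat.pow_le_pow_right (show 0 < 2 by norm_num) (show (j : ℕ) + 1 ≤ j' from hj)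
    have b := Nat.pow_le_pow_right (show 0 < 2 by norm_num) (show (i' : ℕ) + 1 ≤ j' from h')
    have c : 0 < 2 ^ (i : ℕ) := Nat.two_pow_pos _
    have d := Nat.pow_lt_pow_right (show 1 < 2 by norm_num) (show (i : ℕ) < j from h)
    simp only [wt]
    rw [pow_succ] at a b
    omega
  rcases lt_trichotomy j j' with hj | hj | hj
  · exact absurd e (key h h' hj).ne
  · subst hj
    refine ⟨?_, rfl⟩
    have a := Nat.pow_lt_pow_right (show 1 < 2 by norm_num) (show (i : ℕ) < j from h)
    have b := Nat.pow_lt_pow_right (show 1 < 2 by norm_num) (show (i' : ℕ) < j from h')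
    simp only [wt] at e
    have : (2 : ℕ) ^ (i : ℕ) = 2 ^ (i' : ℕ) := by omega
    exact Fin.ext (Nat.pow_right_injective le_rfl this)
  · exact absurd e (key h' h hj).ne'

/-- A triangle free set of ordered pairs on `k` points has at most `k²/4` elements. -/
theorem card_le_of_triangle_free (E : Finset (Fin k × Fin k)) (hlt : ∀ e ∈ E, e.1 < e.2)
    (h : ∀ i j l, (i, j) ∈ E → (j, l) ∈ E → (i, l) ∉ E) : 4 * E.card ≤ k * k := by
  classical
  rcases Nat.eq_zero_or_pos k with rfl | hk
  · rw [Finset.eq_empty_of_forall_notMem (s := E) fun e => e.1.elim0]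
    simp
  haveI : Nonempty (Fin k) := ⟨⟨0, hk⟩⟩
  set nb := fun v : Fin k => (univ.filter fun u => (u, v) ∈ E ∨ (v, u) ∈ E) with hnb
  obtain ⟨v, -, hmax⟩ := univ.exists_max_image (fun v => (nb v).card) univ_nonempty
  set D := (nb v).card with hD
  have hends : ∀ e ∈ E, e.1 ∉ nb v ∨ e.2 ∉ nb v := by
    rintro ⟨a, b⟩ he
    by_contra hcon
    push Not at hcon
    simp only [hnb, mem_filter, mem_univ, true_and] at hcon
    rcases hcon.1 with h1 | h1 <;> rcases hcon.2 with h2 | h2
    · exact h a b v he h2 h1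
    · exact h a v b h1 h2 he
    · exact absurd ((hlt _ he).trans (hlt _ h2)) (hlt _ h1).asymm
    · exact h v a b h1 he h2
  -- edges are counted at endpoints outside the neighbourhood
  have hE : E.card ≤ ∑ u ∈ (nb v)ᶜ, (nb u).card := by
    let g : Fin k × Fin k → (Σ _ : Fin k, Fin k) := fun e =>
      if e.1 ∈ nb v then ⟨e.2, e.1⟩ else ⟨e.1, e.2⟩
    have hg : ∀ e ∈ E, g e ∈ ((nb v)ᶜ).sigma (fun u => nb u) := by
      intro e he
      simp only [g]
      split_ifs with h1
      · simp only [mem_sigma, mem_compl]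
        exact ⟨(hends e he).resolve_left (not_not_intro h1), by simp [hnb, he]⟩
      · simp only [mem_sigma, mem_compl]
        exact ⟨h1, by simp [hnb, he]⟩
    have hinj : Set.InjOn g E := by
      intro e he e' he' heq
      have l1 := hlt e he
      have l2 := hlt e' he'
      simp only [g] at heq
      split_ifs at heq <;>
        simp only [Sigma.mk.injEq, heq_eq_eq] at heq <;>
        obtain ⟨h1, h2⟩ := heq
      · exact Prod.ext h2 h1
      · exact absurd l2 (h1 ▸ h2 ▸ l1).asymm
      · exact absurd l2 (h1 ▸ h2 ▸ l1).asymm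
      · exact Prod.ext h1 h2
    have := Finset.card_le_card_of_injOn g hg hinj
    rwa [card_sigma] at this
  have hsum : ∑ u ∈ (nb v)ᶜ, (nb u).card ≤ (k - D) * D := by
    refine (sum_le_card_nsmul _ _ D fun u _ => hmax u (mem_univ u)).trans_eq ?_
    rw [smul_eq_mul, card_compl, Fintype.card_fin]
  have hDk : D ≤ k := (card_le_univ _).trans_eq (Fintype.card_fin k)
  have h4 : 4 * ((k - D) * D) ≤ k * k := by
    have key : ∀ r d : ℕ, 4 * (r * d) ≤ (r + d) * (r + d) := fun r d => by
      nlinarith [sq_nonneg ((r : ℤ) - d)]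
    simpa [Nat.sub_add_cancel hDk] using key (k - D) D
  omega

variable {p : ℕ} [hp : Fact p.Prime]

/-- Unitriangular matrices: `A = M - 1` strictly upper triangular. -/
def IsNilUpper (A : (Matrix (Fin k) (Fin k) (ZMod p))) : Prop := ∀ i j, A i j ≠ 0 → i < j

/-- Entries have weight at least `a`. -/
def WtGe (A : (Matrix (Fin k) (Fin k) (ZMod p))) (a : ℕ) : Prop := ∀ i j, A i j ≠ 0 → a ≤ wt i j

theorem mul_upper {A B : (Matrix (Fin k) (Fin k) (ZMod p))} (hA : IsNilUpper A) (hB : IsNilUpper B) {a b : ℕ} (ha : WtGe A a)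
    (hb : WtGe B b) : WtGe (A * B) (a + b) := by
  intro i l h
  rw [Matrix.mul_apply] at h
  obtain ⟨q, -, hq⟩ := exists_ne_zero_of_sum_ne_zero h
  have h1 := left_ne_zero_of_mul hq
  have h2 := right_ne_zero_of_mul hq
  rw [← wt_add (hA _ _ h1) (hB _ _ h2)]
  exact Nat.add_le_add (ha _ _ h1) (hb _ _ h2)

theorem mul_isNilUpper {A B : (Matrix (Fin k) (Fin k) (ZMod p))} (hA : IsNilUpper A) (hB : IsNilUpper B) :
    IsNilUpper (A * B) := by
  intro i l h
  rw [Matrix.mul_apply] at h
  obtain ⟨q, -, hq⟩ := exists_ne_zero_of_sum_ne_zero h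
  exact (hA _ _ (left_ne_zero_of_mul hq)).trans (hB _ _ (right_ne_zero_of_mul hq))

variable {X : Type*} [Group X] [Finite X] (ρ : X →* (Matrix (Fin k) (Fin k) (ZMod p)))

/-- The nilpotent part. -/
def nilPart (x : X) : (Matrix (Fin k) (Fin k) (ZMod p)) := ρ x - 1

/-- `(i, j)` is the leading position of `x`. -/
def Lead (x : X) (i j : Fin k) : Prop :=
  nilPart ρ x i j ≠ 0 ∧ WtGe (nilPart ρ x) (wt i j)

theorem nilPart_mul (x y : X) :
    nilPart ρ (x * y) = nilPart ρ x + nilPart ρ y + nilPart ρ x * nilPart ρ y := by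
  simp only [nilPart, map_mul, sub_mul, mul_sub, one_mul, mul_one]
  abel

variable (hU : ∀ x, IsNilUpper (nilPart ρ x))
include hU

theorem lead_commutator {x y : X} {i j l : Fin k} (hx : Lead ρ x i j) (hy : Lead ρ y j l) :
    Lead ρ ⁅x, y⁆ i l := by
  set A := nilPart ρ x with hA
  set B := nilPart ρ y with hB
  set D := nilPart ρ (y * x) with hD
  set C := nilPart ρ ⁅x, y⁆ with hC
  have hij := hU x i j hx.1
  have hjl := hU y j l hy.1
  have hil : wt i j + wt j l = wt i l := wt_add hij hjl
  have key : C = (A * B - B * A) - C * D := by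
    have h := nilPart_mul ρ ⁅x, y⁆ (y * x)
    rw [show ⁅x, y⁆ * (y * x) = x * y by simp [commutatorElement_def, mul_assoc],
      nilPart_mul ρ x y, ← hC, ← hD, ← hA, ← hB] at h
    have hD' : D = B + A + B * A := by rw [hD, nilPart_mul ρ y x]
    calc C = (C + D + C * D) - D - C * D := by abel
      _ = (A + B + A * B) - (B + A + B * A) - C * D := by rw [← h, ← hD']
      _ = _ := by abel
  have hAB : WtGe (A * B - B * A) (wt i l) := by
    intro a b h
    by_contra hlt
    apply h
    rw [Matrix.sub_apply, sub_eq_zero]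
    rw [← hil] at hlt
    have z1 : (A * B) a b = 0 := by_contra fun h' => hlt
      (mul_upper (hU x) (hU y) hx.2 hy.2 a b h')
    have z2 : (B * A) a b = 0 := by_contra fun h' => hlt (by
      rw [add_comm]; exact mul_upper (hU y) (hU x) hy.2 hx.2 a b h')
    rw [z1, z2]
  -- below the weight of `(i, l)` all entries of `C` vanish
  have hlow : ∀ m : ℕ, ∀ a b, wt a b = m → wt a b ≤ wt i l → C a b = (A * B - B * A) a b := by
    intro m
    induction m using Nat.strong_induction_on with
    | _ m ih =>
    intro a b hm hle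
    have hCD : (C * D) a b = 0 := by
      by_contra h
      rw [Matrix.mul_apply] at h
      obtain ⟨q, -, hq⟩ := exists_ne_zero_of_sum_ne_zero h
      have h1 := left_ne_zero_of_mul hq
      have e := wt_add (hU _ _ _ h1) (hU _ _ _ (right_ne_zero_of_mul hq))
      have := wt_pos (hU _ _ _ (right_ne_zero_of_mul hq))
      have hC0 := ih (wt a q) (by omega) a q rfl (by omega)
      rw [hC0] at h1
      have := hAB a q h1
      omega
    conv_lhs => rw [key]
    rw [Matrix.sub_apply, hCD, sub_zero]
  refine ⟨?_, fun a b h => ?_⟩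
  · show C i l ≠ 0
    rw [hlow _ i l rfl le_rfl, Matrix.sub_apply]
    have hBA : (B * A) i l = 0 := by
      by_contra h
      rw [Matrix.mul_apply] at h
      obtain ⟨q, -, hq⟩ := exists_ne_zero_of_sum_ne_zero h
      have h1 := left_ne_zero_of_mul hq
      have h2 := right_ne_zero_of_mul hq
      have e := wt_add (hU _ _ _ h1) (hU _ _ _ h2)
      have e1 := hy.2 _ _ h1
      have e2 := hx.2 _ _ h2
      exact hij.ne (wt_inj (hU _ _ _ h1) hjl (by omega)).1
    have hABv : (A * B) i l = A i j * B j l := by
      rw [Matrix.mul_apply]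
      refine Finset.sum_eq_single j (fun q _ hq => ?_) (by simp)
      by_contra h
      have h1 := left_ne_zero_of_mul h
      have h2 := right_ne_zero_of_mul h
      have e := wt_add (hU _ _ _ h1) (hU _ _ _ h2)
      have e1 := hx.2 _ _ h1
      have e2 := hy.2 _ _ h2
      exact hq (wt_inj (hU _ _ _ h1) hij (by omega)).2
    rw [hBA, sub_zero, hABv]
    exact mul_ne_zero hx.1 hy.1
  · by_contra hlt
    have hle : wt a b ≤ wt i l := by omega
    have h' : (A * B - B * A) a b ≠ 0 := by rw [← hlow _ a b rfl hle]; exact h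
    exact hlt (hAB a b h')

theorem pow_entry {y : X} {i j : Fin k} (hy : Lead ρ y i j) (c : ℕ) :
    WtGe (nilPart ρ (y ^ c)) (wt i j) ∧ nilPart ρ (y ^ c) i j = c * nilPart ρ y i j := by
  have hpos := wt_pos (hU y i j hy.1)
  induction c with
  | zero =>
    have h0 : nilPart ρ (y ^ 0) = 0 := by simp [nilPart]
    rw [h0]
    exact ⟨fun a b h => absurd rfl h, by simp⟩
  | succ c ih =>
    rw [pow_succ, nilPart_mul ρ]
    have hprod := mul_upper (hU (y ^ c)) (hU y) ih.1 hy.2
    refine ⟨fun a b h => ?_, ?_⟩
    · by_contra hlt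
      apply h
      have z1 : nilPart ρ (y ^ c) a b = 0 := by_contra fun h' => hlt (ih.1 _ _ h')
      have z2 : nilPart ρ y a b = 0 := by_contra fun h' => hlt (hy.2 _ _ h')
      have z3 : (nilPart ρ (y ^ c) * nilPart ρ y) a b = 0 := by_contra fun h' => hlt (by
        have := hprod a b h'; omega)
      simp [Matrix.add_apply, z1, z2, z3]
    · have z3 : (nilPart ρ (y ^ c) * nilPart ρ y) i j = 0 := by_contra fun h' => by
        have := hprod i j h'; omega
      simp only [Matrix.add_apply, z3, add_zero, ih.2]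
      push_cast
      ring

/-- A `p`-group of unitriangular matrices of degree `k` is generated by `k²/4` elements. -/
theorem exists_generators_of_unitriangular (hX : IsPGroup p X) (hinj : Function.Injective ρ) :
    ∃ T : Finset X, Subgroup.closure (T : Set X) = ⊤ ∧ 4 * T.card ≤ k * k := by
  classical
  set S : Finset (Fin k × Fin k) := univ.filter fun e =>
    (∃ x, Lead ρ x e.1 e.2) ∧ ¬ ∃ x ∈ frattini X, Lead ρ x e.1 e.2 with hS
  let pick : Fin k × Fin k → X := fun e => if h : ∃ x, Lead ρ x e.1 e.2 then h.choose else 1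
  refine ⟨S.image pick, CfsgLib.Solvable.eq_top_of_sup_frattini ?_, ?_⟩
  · set H := Subgroup.closure (S.image pick : Set X) ⊔ frattini X
    have hlead : ∀ (x : X) (i j : Fin k), Lead ρ x i j → ∃ y ∈ H, Lead ρ y i j := by
      intro x i j hx
      by_cases hQ : ∃ x ∈ frattini X, Lead ρ x i j
      · obtain ⟨y, hy, hy'⟩ := hQ
        exact ⟨y, Subgroup.mem_sup_right hy, hy'⟩
      · refine ⟨pick (i, j), Subgroup.mem_sup_left (Subgroup.subset_closure (Finset.mem_coe.2
          (mem_image_of_mem _ (mem_filter.2 ⟨mem_univ _, ⟨x, hx⟩, hQ⟩)))), ?_⟩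
        simp only [pick, dif_pos (show ∃ x, Lead ρ x (i, j).1 (i, j).2 from ⟨x, hx⟩)]
        exact Exists.choose_spec (show ∃ x, Lead ρ x (i, j).1 (i, j).2 from ⟨x, hx⟩)
    suffices h : ∀ (m : ℕ) (x : X),
        (∀ a b, nilPart ρ x a b ≠ 0 → 2 ^ k ≤ wt a b + m) → x ∈ H by
      exact eq_top_iff.2 fun x _ => h (2 ^ k) x fun a b _ => by omega
    intro m
    induction m with
    | zero =>
      intro x hx
      have h0 : nilPart ρ x = 0 := by
        ext a b
        by_contra h
        have := hx a b h
        have := wt_lt_pow (i := a) (j := b)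
        omega
      have : x = 1 := hinj (by rw [map_one]; exact sub_eq_zero.1 h0)
      exact this ▸ H.one_mem
    | succ m ih =>
      intro x hx
      by_cases hex : ∃ a b, nilPart ρ x a b ≠ 0 ∧ wt a b + (m + 1) = 2 ^ k
      swap
      · refine ih x fun a b h => ?_
        have := hx a b h
        have : wt a b + (m + 1) ≠ 2 ^ k := fun e => hex ⟨a, b, h, e⟩
        omega
      obtain ⟨i, j, hne, he⟩ := hex
      have hxl : Lead ρ x i j := ⟨hne, fun a b h => by have := hx a b h; omega⟩
      obtain ⟨y, hyH, hy⟩ := hlead x i j hxl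
      set c := (-(nilPart ρ x i j * (nilPart ρ y i j)⁻¹)).val with hc
      obtain ⟨hw, hv⟩ := pow_entry ρ hU hy c
      have hprod := mul_upper (hU (y ^ c)) (hU x) hw hxl.2
      have hpos := wt_pos (hU x i j hne)
      have h2 : y ^ c * x ∈ H := by
        refine ih _ fun a b h => ?_
        rw [nilPart_mul ρ, Matrix.add_apply, Matrix.add_apply] at h
        by_contra hlt
        apply h
        have z3 : (nilPart ρ (y ^ c) * nilPart ρ x) a b = 0 := by_contra fun h' => by
          have := hprod a b h'; omega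
        rw [z3, add_zero]
        by_cases heq : wt a b = wt i j
        · by_cases hab : a < b
          · obtain ⟨rfl, rfl⟩ := wt_inj hab (hU x i j hne) heq
            rw [hv, hc, ZMod.natCast_val, ZMod.cast_id, neg_mul, inv_mul_cancel_right₀ hy.1]
            ring
          · have z1 : nilPart ρ (y ^ c) a b = 0 := by_contra fun h' => hab (hU _ a b h')
            have z2 : nilPart ρ x a b = 0 := by_contra fun h' => hab (hU _ a b h')
            rw [z1, z2, add_zero]
        · have z1 : nilPart ρ (y ^ c) a b = 0 := by_contra fun h' => by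
            have := hw a b h'; omega
          have z2 : nilPart ρ x a b = 0 := by_contra fun h' => by
            have := hx a b h'; omega
          rw [z1, z2, add_zero]
      simpa using H.mul_mem (H.inv_mem (H.pow_mem hyH c)) h2
  · refine (Nat.mul_le_mul_left 4 card_image_le).trans (card_le_of_triangle_free S ?_ ?_)
    · intro e he
      obtain ⟨⟨x, hx⟩, -⟩ := (mem_filter.1 he).2
      exact hU x _ _ hx.1
    · intro i j l h1 h2 h3
      obtain ⟨⟨x, hx⟩, -⟩ := (mem_filter.1 h1).2
      obtain ⟨⟨y, hy⟩, -⟩ := (mem_filter.1 h2).2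
      exact (mem_filter.1 h3).2.2 ⟨⁅x, y⁆, CfsgLib.Solvable.commutator_le_frattini hX
        (Subgroup.commutator_mem_commutator (Subgroup.mem_top x) (Subgroup.mem_top y)),
        lead_commutator ρ hU hx hy⟩

end CfsgLib.UnipotentRank
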