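import Cfsg.Agent.UnipotentRank.Omega
import Cfsg.Agent.UnipotentRank.Unitriangular
import Cfsg.Agent.OddOrder.BG4.Basic
import Mathlib.Algebra.Module.ZMod
import Mathlib.LinearAlgebra.Matrix.ToLin
import Mathlib.GroupTheory.Rank
import Mathlib.GroupTheory.Schreier

/-!
# Generators of subgroups of a `p`-group, `p` odd

* `exists_triangular_basis`, `exists_unitriangular_rep`: the action on a normal elementary abelian
  subgroup of a `p`-group is unitriangular.
* `exists_generators_le`: if every normal abelian subgroup is `k`-generated, every subgroup is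
  generated by `k(k+4)/4` elements.
-/

set_option autoImplicit false
set_option linter.unusedSectionVars false
set_option linter.style.haveILetI false

namespace CfsgLib.UnipotentRank

open Subgroup

variable {P : Type*} [Group P] [Finite P] {p : ℕ} [hp : Fact p.Prime]

/-- A normal elementary abelian subgroup has a basis triangular for conjugation. -/
theorem exists_triangular_basis (hP : IsPGroup p P) : ∀ (r : ℕ) (E : Subgroup P), E.Normal →
    (∀ a ∈ E, a ^ p = 1) → Nat.card E = p ^ r →
    ∃ e : Fin r → P, (∀ i, e i ∈ E) ∧ E ≤ closure (Set.range e) ∧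
      ∀ g i, g * e i * g⁻¹ * (e i)⁻¹ ∈ closure (e '' {j | j < i}) := by
  intro r
  induction r with
  | zero =>
    intro E _ _ hE
    exact ⟨Fin.elim0, fun i => i.elim0, (card_eq_one.1 (by simpa using hE)).le.trans bot_le,
      fun _ i => i.elim0⟩
  | succ r ih =>
    intro E hEn hexp hE
    haveI := hEn
    obtain ⟨M, hMn, hME, hM⟩ := CfsgLib.OddOrder.BG4.exists_normal_card_le hP E r
      (by rw [hE]; exact Nat.pow_le_pow_right hp.out.pos r.le_succ)
    haveI := hMn
    obtain ⟨e, heM, hspan, htri⟩ := ih M hMn (fun a ha => hexp a (hME ha)) hM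
    have hlt : ¬ E ≤ M := fun h => by
      have := card_le_of_le h
      rw [hE, hM] at this
      have := Nat.pow_lt_pow_right hp.out.one_lt (show r < r + 1 by omega)
      omega
    obtain ⟨x, hxE, hxM⟩ := SetLike.not_le_iff_exists.1 hlt
    -- `E / M` is central
    have hq : Nat.card (E.map (QuotientGroup.mk' M)) = p := by
      have h1 := card_mul_index (M.subgroupOf E)
      rw [Nat.card_congr (subgroupOfEquivOfLe hME).toEquiv, hM, hE, pow_succ] at h1
      have h2 := Nat.eq_of_mul_eq_mul_left (pow_pos hp.out.pos r) h1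
      have h3 : ((QuotientGroup.mk' M).comp E.subtype).ker = M.subgroupOf E := by
        rw [← MonoidHom.comap_ker, QuotientGroup.ker_mk']
        rfl
      rw [← h3, index_ker, MonoidHom.range_comp, range_subtype] at h2
      exact h2
    haveI : (E.map (QuotientGroup.mk' M)).Normal :=
      hEn.map _ (QuotientGroup.mk'_surjective M)
    have hcen := CfsgLib.OddOrder.BG4.le_center_of_normal_card_prime (hP.to_quotient M) hq
    have hxcomm : ∀ g : P, g * x * g⁻¹ * x⁻¹ ∈ M := fun g => by
      apply (QuotientGroup.eq_one_iff _).1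
      show QuotientGroup.mk' M (g * x * g⁻¹ * x⁻¹) = 1
      rw [map_mul, map_mul, map_mul, map_inv, map_inv,
        mem_center_iff.1 (hcen ⟨x, hxE, rfl⟩) (QuotientGroup.mk' M g)]
      group
    refine ⟨Fin.snoc e x, fun i => ?_, ?_, fun g i => ?_⟩
    · induction i using Fin.lastCases with
      | last => simpa using hxE
      | cast i => simpa using hME (heM i)
    · have hM' : M ≤ closure (Set.range (Fin.snoc e x : Fin (r + 1) → P)) := by
        refine hspan.trans (closure_mono ?_)
        rintro _ ⟨i, rfl⟩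
        exact ⟨i.castSucc, by simp⟩
      have hx' : x ∈ closure (Set.range (Fin.snoc e x : Fin (r + 1) → P)) :=
        subset_closure ⟨Fin.last r, by simp⟩
      intro y hy
      obtain ⟨i, hi⟩ : ∃ i : ℕ, (QuotientGroup.mk' M y) = (QuotientGroup.mk' M x) ^ i := by
        have hz : zpowers (QuotientGroup.mk' M x) = E.map (QuotientGroup.mk' M) := by
          refine eq_of_le_of_card_ge (zpowers_le.2 ⟨x, hxE, rfl⟩) ?_
          rw [hq, Nat.card_zpowers]
          have hdvd : orderOf (QuotientGroup.mk' M x) ∣ p :=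
            hq ▸ Subgroup.orderOf_dvd_natCard _ ⟨x, hxE, rfl⟩
          refine ((hp.out.eq_one_or_self_of_dvd _ hdvd).resolve_left fun h => hxM ?_).ge
          exact (QuotientGroup.eq_one_iff x).1 (orderOf_eq_one_iff.1 h)
        have hmem : QuotientGroup.mk' M y ∈ zpowers (QuotientGroup.mk' M x) := hz ▸ ⟨y, hy, rfl⟩
        obtain ⟨i, hi⟩ := mem_powers_iff_mem_zpowers.2 hmem
        exact ⟨i, hi.symm⟩
      rw [← map_pow, QuotientGroup.mk'_apply, QuotientGroup.mk'_apply, QuotientGroup.eq] at hi
      have h4 := mul_mem (pow_mem hx' i) (inv_mem (hM' hi))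
      simpa using h4
    · induction i using Fin.lastCases with
      | last =>
        simp only [Fin.snoc_last]
        refine closure_mono ?_ (hspan (hxcomm g))
        rintro _ ⟨j, rfl⟩
        exact ⟨j.castSucc, Fin.castSucc_lt_last j, by simp⟩
      | cast i =>
        simp only [Fin.snoc_castSucc]
        refine closure_mono ?_ (htri g i)
        rintro _ ⟨j, hj, rfl⟩
        exact ⟨j.castSucc, Fin.castSucc_lt_castSucc_iff.2 hj, by simp⟩

/-- The action on a normal elementary abelian subgroup of order `p ^ r` of a `p`-group is given by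
unitriangular matrices of degree `r`. -/
theorem exists_unitriangular_rep (hP : IsPGroup p P) {r : ℕ} (E : Subgroup P) [E.Normal]
    (hE : Cfsg.IsElementaryAbelian p E) (hcard : Nat.card E = p ^ r) :
    ∃ ρ : P →* Matrix (Fin r) (Fin r) (ZMod p),
      (∀ g, IsNilUpper (ρ g - 1)) ∧ ∀ g, ρ g = 1 → g ∈ centralizer (E : Set P) := by
  classical
  obtain ⟨e, heE, hspan, htri⟩ := exists_triangular_basis hP r E inferInstance hE.2 hcard
  have hcomm : ∀ a b : E, a * b = b * a := fun a b => hE.1.is_comm.comm a b
  let _ : CommGroup E := { (inferInstance : Group E) with mul_comm := hcomm }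
  let e' : Fin r → E := fun i => ⟨e i, heE i⟩
  have hpow : ∀ (a : E) (m n : ℕ), m ≡ n [MOD p] → a ^ m = a ^ n := fun a m n h =>
    pow_eq_pow_iff_modEq.2 (h.of_dvd (orderOf_dvd_of_pow_eq_one (Subtype.ext (hE.2 a a.2))))
  -- coordinates
  let ψ : Multiplicative (Fin r → ZMod p) →* E :=
    { toFun := fun v => ∏ i, e' i ^ (Multiplicative.toAdd v i).val
      map_one' := by simp
      map_mul' := fun v w => by
        rw [← Finset.prod_mul_distrib]
        refine Finset.prod_congr rfl fun i _ => ?_
        rw [← pow_add]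
        refine hpow _ _ _ ?_
        rw [toAdd_mul, Pi.add_apply, ZMod.val_add]
        exact Nat.mod_modEq _ _ }
  have hψe : ∀ j, ψ (Multiplicative.ofAdd (Pi.single j 1)) = e' j := fun j => by
    show ∏ i, e' i ^ ((Pi.single j (1 : ZMod p) : Fin r → ZMod p) i).val = e' j
    rw [Finset.prod_eq_single j (fun i _ hi => by rw [Pi.single_eq_of_ne hi, ZMod.val_zero, pow_zero])
      (by simp), Pi.single_eq_same, ZMod.val_one, pow_one]
  have hψ : Function.Bijective ψ := by
    haveI : Fintype E := Fintype.ofFinite E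
    refine (Fintype.bijective_iff_surjective_and_card ψ).2 ⟨fun a => ?_, ?_⟩
    · have h1 : (a : P) ∈ (ψ.range.map E.subtype) := by
        refine (closure_le _).2 ?_ (hspan a.2)
        rintro _ ⟨i, rfl⟩
        exact ⟨e' i, ⟨_, hψe i⟩, rfl⟩
      obtain ⟨b, ⟨v, hv⟩, hb⟩ := h1
      exact ⟨v, hv.trans (Subtype.ext hb)⟩
    · rw [Fintype.card_multiplicative, Fintype.card_fun, ZMod.card, Fintype.card_fin,
        ← Nat.card_eq_fintype_card, hcard]
  let Φ : Multiplicative (Fin r → ZMod p) ≃* E := MulEquiv.ofBijective ψ hψ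
  let L : P → ((Fin r → ZMod p) →ₗ[ZMod p] (Fin r → ZMod p)) := fun g =>
    AddMonoidHom.toZModLinearMap p
      { toFun := fun v =>
          Multiplicative.toAdd (Φ.symm (MulAut.conjNormal g (Φ (Multiplicative.ofAdd v))))
        map_zero' := by simp
        map_add' := fun v w => by simp }
  have hL : ∀ g v, Φ (Multiplicative.ofAdd (L g v)) =
      MulAut.conjNormal g (Φ (Multiplicative.ofAdd v)) := fun g v => by
    show Φ (Multiplicative.ofAdd
      (Multiplicative.toAdd (Φ.symm (MulAut.conjNormal g (Φ (Multiplicative.ofAdd v)))))) = _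
    rw [ofAdd_toAdd, MulEquiv.apply_symm_apply]
  let ρ : P →* Matrix (Fin r) (Fin r) (ZMod p) :=
    { toFun := fun g => LinearMap.toMatrix' (L g)
      map_one' := by
        rw [show L 1 = LinearMap.id from LinearMap.ext fun v => Multiplicative.ofAdd.injective
          (Φ.injective (by rw [hL, map_one]; rfl))]
        exact LinearMap.toMatrix'_id
      map_mul' := fun g h => by
        have e : L (g * h) = (L g).comp (L h) := LinearMap.ext fun v =>
          Multiplicative.ofAdd.injective (Φ.injective (by
            rw [LinearMap.comp_apply, hL, hL, hL, map_mul, MulAut.mul_apply]))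
        show LinearMap.toMatrix' (L (g * h)) = _
        rw [e]
        exact LinearMap.toMatrix'_comp _ _ }
  have hcol : ∀ g i j, ρ g i j = Multiplicative.toAdd (Φ.symm (MulAut.conjNormal g (e' j))) i := by
    intro g i j
    show LinearMap.toMatrix' (L g) i j = _
    rw [LinearMap.toMatrix'_apply]
    have : L g (Pi.single j 1) = Multiplicative.toAdd (Φ.symm (MulAut.conjNormal g (e' j))) := by
      apply Multiplicative.ofAdd.injective
      apply Φ.injective
      rw [hL, ofAdd_toAdd, MulEquiv.apply_symm_apply]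
      exact congrArg _ (hψe j)
    first
      | exact congrFun this i
      | (rw [← this]; congr 2; ext q; simp [Pi.single_apply])
  refine ⟨ρ, fun g i j h => ?_, fun g hg => ?_⟩
  · by_contra hij
    apply h
    -- the `j`-th image is `e j` times a combination of earlier vectors
    let U : Subgroup E :=
      { carrier := {a | ∀ q, j ≤ q → Multiplicative.toAdd (Φ.symm a) q = 0}
        one_mem' := fun q _ => by simp
        mul_mem' := fun {a b} ha hb q hq => by simp [map_mul, ha q hq, hb q hq]
        inv_mem' := fun {a} ha q hq => by simp [map_inv, ha q hq] }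
    have hU : MulAut.conjNormal g (e' j) * (e' j)⁻¹ ∈ U := by
      have h1 : ((MulAut.conjNormal g (e' j) * (e' j)⁻¹ : E) : P) ∈ U.map E.subtype := by
        refine (closure_le _).2 ?_ (htri g j)
        rintro _ ⟨q, hq, rfl⟩
        refine ⟨e' q, fun q' hq' => ?_, rfl⟩
        rw [← hψe q, show ψ _ = Φ _ from rfl, MulEquiv.symm_apply_apply]
        exact Pi.single_eq_of_ne (ne_of_gt (lt_of_lt_of_le hq hq')) _
      obtain ⟨b, hb, hbe⟩ := h1
      exact Subtype.ext hbe ▸ hb
    have h2 := hU i (le_of_not_gt hij)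
    rw [map_mul, map_inv, toAdd_mul, toAdd_inv, Pi.add_apply, Pi.neg_apply, ← hcol g i j,
      show Φ.symm (e' j) = Multiplicative.ofAdd (Pi.single j 1) from by
        rw [MulEquiv.symm_apply_eq]; exact (hψe j).symm] at h2
    rw [Matrix.sub_apply, Matrix.one_apply]
    rw [toAdd_ofAdd, Pi.single_apply] at h2
    rw [sub_eq_add_neg]
    exact h2
  · refine mem_centralizer_iff.2 fun a ha => ?_
    obtain ⟨v, hv⟩ := Φ.surjective ⟨a, ha⟩
    have h1 : L g = LinearMap.id := by
      apply LinearMap.toMatrix'.injective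
      rw [LinearMap.toMatrix'_id]
      exact hg
    have h2 := hL g (Multiplicative.toAdd v)
    rw [h1, LinearMap.id_apply, ofAdd_toAdd, hv] at h2
    have h3 : a = g * a * g⁻¹ := by
      conv_lhs => rw [show a = ((⟨a, ha⟩ : E) : P) from rfl, h2, MulAut.conjNormal_apply]
    calc a * g = g * a * g⁻¹ * g := by rw [← h3]
      _ = g * a := by group

/-- For odd `p`: if all normal abelian subgroups of the `p`-group `P` are `k`-generated, then all
subgroups are `k(k+4)/4`-generated. -/
theorem exists_generators_le (hp2 : p ≠ 2) (hP : IsPGroup p P) (k : ℕ)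
    (hab : ∀ A : Subgroup P, A.Normal → IsMulCommutative A →
      ∃ S : Finset P, S.card ≤ k ∧ closure (S : Set P) = A) (H : Subgroup P) :
    ∃ S : Finset P, S.card ≤ k * (k + 4) / 4 ∧ closure (S : Set P) = H := by
  classical
  obtain ⟨B, -, hBn, hBel, hBmax⟩ := CfsgLib.OddOrder.BG4.exists_maximalNormalElem
    (CfsgLib.OddOrder.BG4.isElementaryAbelian_bot (R := P) (p := p))
  haveI := hBn
  obtain ⟨r, hr⟩ := CfsgLib.OddOrder.BG4.card_elementary_eq_pow hBel.2
  have hrk : r ≤ k := by
    obtain ⟨S, hS, hSB⟩ := hab B hBn hBel.1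
    let _ : CommGroup B :=
      { (inferInstance : Group B) with mul_comm := fun a b => hBel.1.is_comm.comm a b }
    have h1 : Nat.card B ∣ p ^ Group.rank B :=
      card_dvd_exponent_pow_rank' B fun a => Subtype.ext (hBel.2 a a.2)
    rw [hr] at h1
    have h2 := (Nat.pow_dvd_pow_iff_le_right hp.out.one_lt).1 h1
    have h3 : Group.rank B ≤ k := by
      rw [← Subgroup.rank_congr hSB]
      exact (Subgroup.rank_closure_finset_le_card S).trans hS
    omega
  obtain ⟨ρ, hρ, hker⟩ := exists_unitriangular_rep hP B hBel hr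
  obtain ⟨φ, hφ⟩ : ∃ φ : H →* (Matrix (Fin r) (Fin r) (ZMod p))ˣ, ∀ x : H, (φ x : Matrix (Fin r) (Fin r) (ZMod p)) = ρ (x : P) :=
    ⟨(ρ.comp H.subtype).toHomUnits, fun x => rfl⟩
  have hkerP : ∀ x ∈ φ.ker, ((x : H) : P) ∈ centralizer (B : Set P) := fun x hx => hker _ (by
    rw [← hφ x, MonoidHom.mem_ker.1 hx, Units.val_one])
  -- the kernel
  obtain ⟨T₁, hT₁, hT₁c⟩ := exists_generators_of_omega_central hp2 _ φ.ker rfl
    ((hP.to_subgroup H).to_subgroup φ.ker) (by
      intro x hx
      have hxB : ((x : H) : P) ∈ B :=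
        CfsgLib.OddOrder.BG4.mem_of_commute_maximalNormalElem hp2 hP hBel hBmax (hkerP _ x.2)
          (congrArg (fun y : φ.ker => ((y : H) : P)) hx)
      exact mem_center_iff.2 fun y => Subtype.ext (Subtype.ext ((hkerP _ y.2) _ hxB).symm))
  have h1 : T₁.card ≤ r := by
    let f : {x : φ.ker // x ^ p = 1} → B := fun x => ⟨((x.1 : H) : P),
      CfsgLib.OddOrder.BG4.mem_of_commute_maximalNormalElem hp2 hP hBel hBmax (hkerP _ x.1.2)
        (congrArg (fun y : φ.ker => ((y : H) : P)) x.2)⟩
    have h2 := Nat.card_le_card_of_injective f fun x y e =>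
      Subtype.ext (Subtype.ext (Subtype.ext (congrArg Subtype.val e :)))
    rw [hr] at h2
    exact (Nat.pow_le_pow_iff_right hp.out.one_lt).1 (hT₁c.trans h2)
  -- the image
  haveI : Finite (H ⧸ φ.ker) := Quotient.finite _
  let ρ' : H ⧸ φ.ker →* Matrix (Fin r) (Fin r) (ZMod p) :=
    (Units.coeHom (Matrix (Fin r) (Fin r) (ZMod p))).comp (QuotientGroup.kerLift φ)
  have hρ' : ∀ q, IsNilUpper (nilPart ρ' q) := fun q => by
    obtain ⟨x, rfl⟩ := QuotientGroup.mk_surjective q
    have e : ρ' (QuotientGroup.mk x) = ρ (x : P) := by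
      show ((QuotientGroup.kerLift φ (QuotientGroup.mk x) :
        (Matrix (Fin r) (Fin r) (ZMod p))ˣ) : Matrix (Fin r) (Fin r) (ZMod p)) = _
      rw [QuotientGroup.kerLift_mk, hφ]
    unfold nilPart
    rw [e]
    exact hρ x
  have hinj : Function.Injective ρ' :=
    Units.val_injective.comp (QuotientGroup.kerLift_injective φ)
  obtain ⟨T₂, hT₂, hT₂c⟩ := exists_generators_of_unitriangular (k := r) (p := p)
    (X := H ⧸ φ.ker) ρ' hρ' ((hP.to_subgroup H).to_quotient φ.ker) hinj
  let lift : H ⧸ φ.ker → H := Function.surjInv (QuotientGroup.mk'_surjective φ.ker)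
  have hlift : ∀ q, QuotientGroup.mk' φ.ker (lift q) = q := Function.surjInv_eq _
  refine ⟨(T₁.image fun (x : φ.ker) => ((x : H) : P)) ∪ T₂.image (fun q => ((lift q : H) : P)), ?_, ?_⟩
  · refine (Finset.card_union_le _ _).trans
      ((Nat.add_le_add Finset.card_image_le Finset.card_image_le).trans ?_)
    rw [Nat.le_div_iff_mul_le (by norm_num)]
    nlinarith [Nat.mul_le_mul hrk hrk]
  · set U : Finset H := T₁.image Subtype.val ∪ T₂.image lift with hU
    have hset : ((T₁.image fun (x : φ.ker) => ((x : H) : P)) ∪ T₂.image (fun q => ((lift q : H) : P)) :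
        Finset P) = U.image Subtype.val := by
      rw [hU, Finset.image_union, Finset.image_image, Finset.image_image]
      rfl
    have htop : closure (U : Set H) = ⊤ := by
      have hker : φ.ker ≤ closure (U : Set H) := fun x hx => by
        have h2 := mem_map_of_mem φ.ker.subtype (hT₁ ▸ mem_top (⟨x, hx⟩ : φ.ker))
        rw [MonoidHom.map_closure] at h2
        refine closure_mono ?_ h2
        rintro _ ⟨y, hy, rfl⟩
        exact Finset.mem_coe.2 (Finset.mem_union_left _ (Finset.mem_image_of_mem _ hy))
      have hmap : (closure (U : Set H)).map (QuotientGroup.mk' φ.ker) = ⊤ := by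
        rw [eq_top_iff, ← hT₂, closure_le]
        intro q hq
        exact ⟨lift q, subset_closure (Finset.mem_coe.2
          (Finset.mem_union_right _ (Finset.mem_image_of_mem _ hq))), hlift q⟩
      have h3 := congrArg (comap (QuotientGroup.mk' φ.ker)) hmap
      rwa [comap_top, comap_map_eq, QuotientGroup.ker_mk', sup_eq_left.2 hker] at h3
    rw [hset, Finset.coe_image, ← H.coe_subtype, ← MonoidHom.map_closure, htop,
      ← MonoidHom.range_eq_map, range_subtype]

end CfsgLib.UnipotentRank
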