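import Cfsg.Agent.Solvable.Frattini
import Mathlib.Data.Nat.Choose.Dvd

/-!
# Groups of odd prime power order whose elements of order `p` are central

`exists_generators_of_omega_central`: such a group `H` is generated by `d` elements with
`p ^ d ≤ #{x | x ^ p = 1}` (Thompson).
-/

set_option autoImplicit false
set_option linter.style.haveILetI false
set_option linter.unusedSectionVars false

namespace CfsgLib.UnipotentRank

open Subgroup

open scoped commutatorElement

universe u

/-- Powers of a product with a central commutator. -/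
theorem mul_pow_of_central {G : Type u} [Group G] (a b : G)
    (hc : ∀ g : G, g * ⁅b, a⁆ = ⁅b, a⁆ * g) (n : ℕ) :
    (a * b) ^ n = a ^ n * b ^ n * ⁅b, a⁆ ^ n.choose 2 := by
  have hc' : ∀ (m : ℕ) (g : G), g * ⁅b, a⁆ ^ m = ⁅b, a⁆ ^ m * g := fun m g =>
    ((show Commute g ⁅b, a⁆ from hc g).pow_right m).eq
  have hba : ∀ m : ℕ, b ^ m * a = a * b ^ m * ⁅b, a⁆ ^ m := by
    intro m
    induction m with
    | zero => simp
    | succ m ih =>
      calc b ^ (m + 1) * a = b * (b ^ m * a) := by rw [pow_succ']; group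
        _ = ⁅b, a⁆ * (a * b ^ (m + 1)) * ⁅b, a⁆ ^ m := by
            rw [ih, commutatorElement_def, pow_succ']; group
        _ = a * b ^ (m + 1) * (⁅b, a⁆ * ⁅b, a⁆ ^ m) := by rw [← hc (a * b ^ (m + 1)), mul_assoc]
        _ = a * b ^ (m + 1) * ⁅b, a⁆ ^ (m + 1) := by rw [← pow_succ']
  induction n with
  | zero => simp
  | succ n ih =>
    rw [Nat.choose_succ_succ', Nat.choose_one_right, pow_succ, ih]
    calc a ^ n * b ^ n * ⁅b, a⁆ ^ n.choose 2 * (a * b)
        = a ^ n * b ^ n * (⁅b, a⁆ ^ n.choose 2 * (a * b)) := by group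
      _ = a ^ n * (b ^ n * a) * b * ⁅b, a⁆ ^ n.choose 2 := by rw [← hc' _ (a * b)]; group
      _ = a ^ n * (a * b ^ n) * (⁅b, a⁆ ^ n * b) * ⁅b, a⁆ ^ n.choose 2 := by rw [hba]; group
      _ = a ^ (n + 1) * b ^ (n + 1) * ⁅b, a⁆ ^ (n + n.choose 2) := by
          rw [← hc' n b, pow_succ, pow_succ, pow_add]; group

/-- The power map on a pair with equal central powers and central commutator of order `p`. -/
theorem div_pow_eq_one {G : Type u} [Group G] {p : ℕ} (hp : p.Prime) (hp2 : p ≠ 2) {a b : G}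
    (hc : ∀ g : G, g * ⁅b, a⁆ = ⁅b, a⁆ * g) (hcp : ⁅b, a⁆ ^ p = 1) (hab : a ^ p = b ^ p) :
    (a * b⁻¹) ^ p = 1 := by
  have hd : ⁅b⁻¹, a⁆ = ⁅b, a⁆⁻¹ := by
    have h1 : ⁅b⁻¹, a⁆ = b⁻¹ * ⁅b, a⁆⁻¹ * b := by
      simp only [commutatorElement_def]; group
    have h2 : b * ⁅b, a⁆⁻¹ = ⁅b, a⁆⁻¹ * b := ((show Commute b ⁅b, a⁆ from hc b).inv_right).eq
    rw [h1, mul_assoc, ← h2]
    group
  rw [mul_pow_of_central a b⁻¹ (fun g => by
    rw [hd]; exact ((show Commute g ⁅b, a⁆ from hc g).inv_right).eq) p]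
  obtain ⟨m, hm⟩ := Nat.Prime.dvd_choose_self hp two_ne_zero (lt_of_le_of_ne hp.two_le hp2.symm)
  rw [hm, pow_mul, hd, inv_pow ⁅b, a⁆ p, hcp, inv_one, one_pow, mul_one, inv_pow b p, hab,
    mul_inv_cancel]

/-- If elements of order `p` are central, commutators with elements of order dividing `p²` have
order dividing `p`. -/
theorem commutator_pow_eq_one {p : ℕ} [hp : Fact p.Prime] (hp2 : p ≠ 2) :
    ∀ (n : ℕ) (H : Type u) [Group H] [Finite H], Nat.card H = n → IsPGroup p H →
      (∀ x : H, x ^ p = 1 → x ∈ center H) → ∀ x : H, x ^ (p * p) = 1 → ∀ h : H, ⁅h, x⁆ ^ p = 1 := by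
  intro n
  induction n using Nat.strong_induction_on with
  | _ n ih =>
  intro H _ _ hn hH hΩ x hx h
  by_cases htop : zpowers x = ⊤
  · obtain ⟨i, rfl⟩ := mem_zpowers_iff.1 (htop ▸ mem_top h)
    rw [commutatorElement_eq_one_iff_mul_comm.2 ((Commute.refl x).zpow_left i).eq, one_pow]
  obtain ⟨M, hM, hxM⟩ := CfsgLib.Solvable.exists_coatom_ge htop
  haveI := CfsgLib.Solvable.normal_of_coatom hH hM
  have hxM' : x ∈ M := hxM (mem_zpowers x)
  set x' := h * x * h⁻¹ with hx'
  have hlt : Nat.card M < n := by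
    rw [← hn, ← card_mul_index M, CfsgLib.Solvable.index_coatom hH hM]
    exact lt_mul_of_one_lt_right Nat.card_pos hp.out.one_lt
  have hpow := ih _ hlt M rfl (hH.to_subgroup M)
    (fun y hy => mem_center_iff.2 fun z => Subtype.ext
      (mem_center_iff.1 (hΩ y (congrArg Subtype.val hy)) z))
    ⟨x, hxM'⟩ (Subtype.ext hx) ⟨x', Normal.conj_mem inferInstance x hxM' h⟩
  have hcp : ⁅x', x⁆ ^ p = 1 := congrArg Subtype.val hpow
  have hc : ∀ g : H, g * ⁅x', x⁆ = ⁅x', x⁆ * g := mem_center_iff.1 (hΩ _ hcp)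
  have hxp : x ^ p ∈ center H := hΩ _ (by rw [← pow_mul, hx])
  have heq : x' ^ p = x ^ p := by
    rw [hx', conj_pow, mem_center_iff.1 hxp h, mul_inv_cancel_right]
  have hinv : ∀ g : H, g * ⁅x, x'⁆ = ⁅x, x'⁆ * g := fun g => by
    rw [← commutatorElement_inv x' x]
    exact ((show Commute g ⁅x', x⁆ from hc g).inv_right).eq
  have := div_pow_eq_one hp.out hp2 hinv (by rw [← commutatorElement_inv x' x, inv_pow, hcp, inv_one])
    heq
  rwa [commutatorElement_def]

/-- Thompson: if `p` is odd and all elements of order `p` of the `p`-group `H` are central, then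
`H` has a generating set of size `d` with `p ^ d ≤ #{x | x ^ p = 1}`. -/
theorem exists_generators_of_omega_central {p : ℕ} [hp : Fact p.Prime] (hp2 : p ≠ 2) :
    ∀ (n : ℕ) (H : Type u) [Group H] [Finite H], Nat.card H = n → IsPGroup p H →
      (∀ x : H, x ^ p = 1 → x ∈ center H) →
      ∃ T : Finset H, closure (T : Set H) = ⊤ ∧ p ^ T.card ≤ Nat.card {x : H // x ^ p = 1} := by
  classical
  intro n
  induction n using Nat.strong_induction_on with
  | _ n ih =>
  intro H _ _ hn hH hΩ
  haveI : Nonempty {x : H // x ^ p = 1} := ⟨⟨1, one_pow p⟩⟩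
  by_cases hne : ∃ z : H, z ^ p = 1 ∧ z ∉ frattini H
  · obtain ⟨z, hz, hzF⟩ := hne
    obtain ⟨M, hM, hzM⟩ : ∃ M : Subgroup H, IsCoatom M ∧ z ∉ M := by
      by_contra hcon
      push Not at hcon
      exact hzF (CfsgLib.Solvable.mem_frattini_iff.2 hcon)
    have hlt : Nat.card M < n := by
      rw [← hn, ← card_mul_index M, CfsgLib.Solvable.index_coatom hH hM]
      exact lt_mul_of_one_lt_right Nat.card_pos hp.out.one_lt
    obtain ⟨T, hT, hTc⟩ := ih _ hlt M rfl (hH.to_subgroup M)
      (fun y hy => mem_center_iff.2 fun w => Subtype.ext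
        (mem_center_iff.1 (hΩ y (congrArg Subtype.val hy)) w))
    refine ⟨insert z (T.image M.subtype), ?_, ?_⟩
    · refine hM.2 _ (lt_of_le_of_ne ?_ fun h => hzM ?_)
      · intro y hy
        have h1 : (⟨y, hy⟩ : M) ∈ closure (T : Set M) := hT ▸ mem_top _
        have h2 := mem_map_of_mem M.subtype h1
        rw [MonoidHom.map_closure] at h2
        refine closure_mono ?_ h2
        rw [Finset.coe_insert, Finset.coe_image]
        exact Set.subset_insert _ _
      · rw [h]
        exact subset_closure (Finset.mem_coe.2 (Finset.mem_insert_self _ _))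
    · have hz1 : z ≠ 1 := fun h => hzF (h ▸ one_mem _)
      have hzo : orderOf z = p :=
        (hp.out.eq_one_or_self_of_dvd _ (orderOf_dvd_of_pow_eq_one hz)).resolve_left
          fun h => hz1 (orderOf_eq_one_iff.1 h)
      have hdisj : Disjoint M (zpowers z) := by
        rw [disjoint_iff, ← le_bot_iff]
        rintro w ⟨hwM, hwz⟩
        by_contra hw
        obtain ⟨i, rfl⟩ := mem_powers_iff_mem_zpowers.2 hwz
        obtain ⟨m, hm⟩ := exists_pow_eq_self_of_coprime (x := z) (n := i) (by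
          rw [hzo]
          refine (hp.out.coprime_iff_not_dvd.2 fun ⟨j, hj⟩ => hw ?_).symm
          show z ^ i ∈ (⊥ : Subgroup H)
          rw [hj, pow_mul, hz, one_pow]
          exact one_mem _)
        exact hzM (hm ▸ M.pow_mem hwM m)
      let f : {x : M // x ^ p = 1} × zpowers z → {x : H // x ^ p = 1} := fun q =>
        ⟨(q.1.1 : H) * (q.2 : H), by
          have h2 : ((q.2 : H)) ^ p = 1 := by
            obtain ⟨i, hi⟩ := mem_zpowers_iff.1 q.2.2
            rw [← hi, ← zpow_natCast, zpow_comm, zpow_natCast, hz, one_zpow]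
          have hcen : ((q.2 : H)) ∈ center H := hΩ _ h2
          rw [(show Commute (q.1.1 : H) (q.2 : H) from mem_center_iff.1 hcen _).mul_pow, h2,
            mul_one, show ((q.1.1 : M) : H) ^ p = 1 from congrArg Subtype.val q.1.2]⟩
      have hf : Function.Injective f := by
        intro q q' h
        have h1 := congrArg Subtype.val h
        have := mul_injective_of_disjoint hdisj
          (a₁ := (q.1.1, q.2)) (a₂ := (q'.1.1, q'.2)) h1
        simp only [Prod.mk.injEq] at this
        exact Prod.ext (Subtype.ext this.1) this.2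
      have h3 := Nat.card_le_card_of_injective f hf
      rw [Nat.card_prod, Nat.card_zpowers, hzo] at h3
      calc p ^ (insert z (T.image M.subtype)).card ≤ p ^ (T.card + 1) :=
            Nat.pow_le_pow_right hp.out.pos
              ((Finset.card_insert_le _ _).trans (Nat.succ_le_succ Finset.card_image_le))
        _ = p ^ T.card * p := pow_succ _ _
        _ ≤ _ := (Nat.mul_le_mul_right _ hTc).trans h3
  push Not at hne
  rcases subsingleton_or_nontrivial H with hsub | hnt
  · exact ⟨∅, Subsingleton.elim _ _, by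
      rw [Finset.card_empty, pow_zero]; exact Nat.card_pos⟩
  let Ω : Subgroup H :=
    { carrier := {x | x ^ p = 1}
      one_mem' := one_pow p
      mul_mem' := fun {a b} ha hb => by
        show (a * b) ^ p = 1
        rw [(show Commute a b from mem_center_iff.1 (hΩ b hb) a).mul_pow, ha, hb, one_mul]
      inv_mem' := fun {a} ha => by
        show a⁻¹ ^ p = 1
        rw [inv_pow, ha, inv_one] }
  haveI : Ω.Normal := ⟨fun a ha g => by
    show (g * a * g⁻¹) ^ p = 1
    rw [conj_pow, ha, mul_one, mul_inv_cancel]⟩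
  have hcomm := commutator_pow_eq_one hp2 (Nat.card H) H rfl hH hΩ
  have hΩ1 : Ω ≠ ⊥ := by
    intro h
    obtain ⟨i, hi⟩ := IsPGroup.iff_card.1 hH
    have hi0 : i ≠ 0 := fun h0 => by
      rw [h0, pow_zero] at hi
      have := Finite.one_lt_card (α := H)
      omega
    obtain ⟨x, hx⟩ := exists_prime_orderOf_dvd_card' p (hi ▸ dvd_pow_self p hi0)
    have hxΩ : x ∈ Ω := by
      show x ^ p = 1
      rw [← hx, pow_orderOf_eq_one]
    rw [h, mem_bot] at hxΩ
    rw [hxΩ, orderOf_one] at hx
    exact hp.out.ne_one hx.symm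
  set π := QuotientGroup.mk' Ω
  have hπ : ∀ x : H, π x = 1 ↔ x ^ p = 1 := fun x => QuotientGroup.eq_one_iff x
  have hsq : ∀ x : H, (π x) ^ p = 1 → x ^ (p * p) = 1 := fun x hx => by
    rw [pow_mul]
    rw [← map_pow, hπ] at hx
    exact hx
  have hlt : Nat.card (H ⧸ Ω) < n := by
    rw [← hn, card_eq_card_quotient_mul_card_subgroup Ω]
    exact lt_mul_of_one_lt_right Nat.card_pos ((one_lt_card_iff_ne_bot Ω).2 hΩ1)
  obtain ⟨T, hT, hTc⟩ := ih _ hlt (H ⧸ Ω) rfl (hH.to_quotient Ω) (by
    intro q hq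
    obtain ⟨x, rfl⟩ := QuotientGroup.mk'_surjective Ω q
    refine mem_center_iff.2 fun q' => ?_
    obtain ⟨h, rfl⟩ := QuotientGroup.mk'_surjective Ω q'
    show π h * π x = π x * π h
    rw [← map_mul, ← map_mul, ← mul_inv_eq_one, ← map_inv, ← map_mul, hπ]
    rw [show h * x * (x * h)⁻¹ = ⁅h, x⁆ by rw [commutatorElement_def]; group]
    exact hcomm x (hsq x hq) h)
  let lift : H ⧸ Ω → H := fun q => Function.surjInv (QuotientGroup.mk'_surjective Ω) q
  have hlift : ∀ q, π (lift q) = q := Function.surjInv_eq (QuotientGroup.mk'_surjective Ω)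
  refine ⟨T.image lift, ?_, ?_⟩
  · apply CfsgLib.Solvable.eq_top_of_sup_frattini
    rw [eq_top_iff]
    intro x _
    have h1 : π x ∈ closure (T : Set (H ⧸ Ω)) := hT ▸ mem_top _
    have h2 : (T : Set (H ⧸ Ω)) ⊆ ((closure (T.image lift : Set H)).map π : Set _) := by
      intro q hq
      exact ⟨lift q, subset_closure (Finset.mem_coe.2 (Finset.mem_image_of_mem _ hq)), hlift q⟩
    obtain ⟨y, hy, hye⟩ := (closure_le _).2 h2 h1
    have hz : y⁻¹ * x ∈ frattini H := by
      refine hne _ ((hπ _).1 ?_)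
      rw [map_mul, map_inv, hye, inv_mul_cancel]
    rw [show x = y * (y⁻¹ * x) by group]
    exact mul_mem_sup hy hz
  · refine (Nat.pow_le_pow_right hp.out.pos Finset.card_image_le).trans (hTc.trans ?_)
    let g : {q : H ⧸ Ω // q ^ p = 1} → {x : H // x ^ p = 1} := fun q =>
      ⟨lift q.1 ^ p, by
        rw [← pow_mul]
        exact hsq _ (by rw [hlift]; exact q.2)⟩
    refine Nat.card_le_card_of_injective g fun q q' h => ?_
    have h1 : lift q.1 ^ p = lift q'.1 ^ p := congrArg Subtype.val h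
    have hsq' := hsq (lift q.1) (by rw [hlift]; exact q.2)
    have h3 : (lift q.1 * (lift q'.1)⁻¹) ^ p = 1 := by
      refine div_pow_eq_one hp.out hp2 ?_ (hcomm _ hsq' _) h1
      exact mem_center_iff.1 (hΩ _ (hcomm _ hsq' _))
    have h4 := (hπ _).2 h3
    rw [map_mul, map_inv, hlift, hlift, mul_inv_eq_one] at h4
    exact Subtype.ext h4

end CfsgLib.UnipotentRank
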